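import Groth.Agent.SepNodeLib.Local
import Groth.Agent.GenusZeroLib.PointIdeal
import Groth.Agent.IntMultLib.Cartier

/-!
# The idempotent endomorphism of the ideal of a separating node
-/

set_option autoImplicit false
set_option linter.style.haveILetI false

universe u

open CategoryTheory CategoryTheory.Limits AlgebraicGeometry TopologicalSpace Opposite

noncomputable section

namespace SepNodeLib

variable {X : Scheme.{u}} {P : X}

/-- `g` is `f` on one side of the point and zero on the other. -/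
def Cond (S : Split P) {V : X.Opens} (f g : Γ(X, V)) : Prop :=
  rf (inf_le_left : V ⊓ S.Z₁ ≤ V) g = rf (inf_le_left : V ⊓ S.Z₁ ≤ V) f ∧
    rf (inf_le_left : V ⊓ S.Z₂ ≤ V) g = 0

theorem eq_of_empty [AlgebraicGeometry.IsReduced X] {T : X.Opens} (hT : ∀ x ∈ T, False) (a b : Γ(X, T)) : a = b :=
  sub_eq_zero.1 (eq_zero_of_basicOpen_eq_bot _ (eq_bot_iff.2 fun x hx => (hT x (X.basicOpen_le _ hx)).elim))

theorem Cond.res {S : Split P} {V W : X.Opens} (h : W ≤ V) {f g : Γ(X, V)} (hc : Cond S f g) :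
    Cond S (rf h f) (rf h g) := by
  constructor
  · have e := congrArg (rf (inf_le_inf_right _ h : W ⊓ S.Z₁ ≤ V ⊓ S.Z₁)) hc.1
    rw [rf_rf, rf_rf] at e
    rw [rf_rf, rf_rf]
    exact e
  · have e := congrArg (rf (inf_le_inf_right _ h : W ⊓ S.Z₂ ≤ V ⊓ S.Z₂)) hc.2
    rw [rf_rf, map_zero] at e
    rw [rf_rf]
    exact e

section Unique

variable [AlgebraicGeometry.IsReduced X] (hP : IsClosed ({P} : Set X))
  (hiso : ¬ IsOpen ({P} : Set X))

include hiso in
theorem Cond.unique {S : Split P} {V : X.Opens} {f g g' : Γ(X, V)} (h : Cond S f g) (h' : Cond S f g') : g = g' := by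
  refine sub_eq_zero.1 (eq_zero_of_basicOpen_eq_bot _ ?_)
  have hle := X.basicOpen_le (g - g')
  have key : ∀ (T : X.Opens) (hT : T ≤ V), rf hT g = rf hT g' → ∀ x ∈ T, x ∉ X.basicOpen (g - g') := by
    intro T hT e x hx hb
    have h1 := (Scheme.mem_basicOpen X (g - g') x (hT hx)).1 hb
    rw [← germ_rf hT _ hx, map_sub, e, sub_self, map_zero] at h1
    exact not_isUnit_zero h1
  have hsub : ∀ x ∈ X.basicOpen (g - g'), x = P := fun x hx => by
    by_contra hne
    rcases S.cov x hne with hz | hz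
    · exact key _ inf_le_left (h.1.trans h'.1.symm) x ⟨hle hx, hz⟩ hx
    · exact key _ inf_le_left (h.2.trans h'.2.symm) x ⟨hle hx, hz⟩ hx
  rw [eq_bot_iff]
  intro x hx
  exfalso
  refine hiso ?_
  convert (X.basicOpen (g - g')).2
  ext y
  exact ⟨fun hy => by obtain rfl := Set.mem_singleton_iff.1 hy; obtain rfl := hsub x hx; exact hx, fun hy => hsub y hy⟩

variable {k : Type u} [Field k] [IsAlgClosed k] [X.Over (Spec (CommRingCat.of k))]
  [LocallyOfFiniteType (X ↘ (Spec (CommRingCat.of k)))] [AlgebraicGeometry.IsNoetherian X]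
  [ConnectedSpace X]
  (hequi : ∀ Z ∈ irreducibleComponents (X : Type u), topologicalKrullDim Z = 1)
  (hnode : Curv2.IsNode k X P) (S : Split P)

include hiso hequi hnode in
theorem exists_cond {V : X.Opens} (f : Γ(X, V)) (hf : P ∉ X.basicOpen f) : ∃ g, Cond S f g := by
  let ι := {p : Σ W : X.Opens, Γ(X, W) // ∃ h : p.1 ≤ V, Cond S (rf h f) p.2}
  have hcov : ∀ x ∈ V, ∃ p : ι, x ∈ p.1.1 := by
    intro x hx
    by_cases hxP : x = P
    · subst hxP
      obtain ⟨W, hW, b, hxW, h1, h2⟩ := exists_local_split hequi S hnode hx f hf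
      exact ⟨⟨⟨W, b⟩, hW, h1.trans (rf_rf _ _ f).symm, h2⟩, hxW⟩
    · rcases S.cov x hxP with hz | hz
      · refine ⟨⟨⟨V ⊓ S.Z₁, rf inf_le_left f⟩, inf_le_left, rfl, ?_⟩, hx, hz⟩
        exact eq_of_empty (T := V ⊓ S.Z₁ ⊓ S.Z₂) (fun y hy => absurd hy.2 (S.disj y hy.1.2)) _ _
      · refine ⟨⟨⟨V ⊓ S.Z₂, 0⟩, inf_le_left, ?_, map_zero _⟩, hx, hz⟩
        exact eq_of_empty (T := V ⊓ S.Z₂ ⊓ S.Z₁) (fun y hy => absurd hy.1.2 (S.disj y hy.2)) _ _
  obtain ⟨g, hg, -⟩ := TopCat.Sheaf.existsUnique_gluing' X.sheaf (fun p : ι => p.1.1) V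
    (fun p => homOfLE p.2.1) (fun x hx => Opens.mem_iSup.2 (hcov x hx)) (fun p => p.1.2) (fun p q => by
      obtain ⟨hp, hp'⟩ := p.2
      obtain ⟨hq, hq'⟩ := q.2
      have e1 := hp'.res (inf_le_left : p.1.1 ⊓ q.1.1 ≤ p.1.1)
      have e2 := hq'.res (inf_le_right : p.1.1 ⊓ q.1.1 ≤ q.1.1)
      rw [rf_rf] at e1 e2
      exact Cond.unique hiso e1 e2)
  obtain ⟨g, hg⟩ : ∃ g' : Γ(X, V), ∀ p : ι, rf p.2.1 g' = p.1.2 := ⟨g, hg⟩
  refine ⟨g, ?_, ?_⟩
  · refine TopCat.Sheaf.eq_of_locally_eq' X.sheaf (fun p : ι => p.1.1 ⊓ S.Z₁) _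
      (fun p => homOfLE (inf_le_inf_right _ p.2.1)) (fun x hx => ?_) _ _ fun p => ?_
    · obtain ⟨p, hp⟩ := hcov x hx.1
      exact Opens.mem_iSup.2 ⟨p, hp, hx.2⟩
    obtain ⟨hp, hp'⟩ := p.2
    change rf _ (rf _ g) = rf _ (rf _ f)
    rw [rf_rf, rf_rf]
    have e := hp'.1
    rw [← show rf hp g = p.1.2 from hg p, rf_rf, rf_rf] at e
    exact e
  · refine TopCat.Sheaf.eq_of_locally_eq' X.sheaf (fun p : ι => p.1.1 ⊓ S.Z₂) _
      (fun p => homOfLE (inf_le_inf_right _ p.2.1)) (fun x hx => ?_) _ _ fun p => ?_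
    · obtain ⟨p, hp⟩ := hcov x hx.1
      exact Opens.mem_iSup.2 ⟨p, hp, hx.2⟩
    obtain ⟨hp, hp'⟩ := p.2
    change rf _ (rf _ g) = rf _ 0
    rw [rf_rf, map_zero]
    have e := hp'.2
    rw [← show rf hp g = p.1.2 from hg p, rf_rf] at e
    exact e

include hiso hequi hnode S in
theorem exists_idempotent :
    ∃ e : ClSub.idealMod (GenusZeroLib.ptIdeal hP) ⟶ ClSub.idealMod (GenusZeroLib.ptIdeal hP),
      e ≫ e = e ∧ e ≠ 0 ∧ e ≠ 𝟙 _ := by
  let I := GenusZeroLib.ptIdeal hP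
  let v : ∀ {V : X.Opens}, Γ(ClSub.idealMod I, V) → Γ(X, V) := fun {V} t =>
    (show Γ(X, V) from (ClSub.idealModι I).app V t)
  have hv_inj : ∀ {V : X.Opens} (a b : Γ(ClSub.idealMod I, V)), v a = v b → a = b := fun {V} a b h =>
    IntMultLib.idealModι_app_injective I V h
  have hvP : ∀ {V : X.Opens} (t : Γ(ClSub.idealMod I, V)), P ∉ X.basicOpen (v t) := fun {V} t =>
    (GenusZeroLib.ptIdeal_app_eq_zero_iff hP _).1 (congrArg (fun f => f.app V t)
      (show ClSub.idealModι I ≫ ClSub.toSubscheme I = 0 from kernel.condition _))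
  have hvlift : ∀ {V : X.Opens} (g : Γ(X, V)), P ∉ X.basicOpen g → ∃ t : Γ(ClSub.idealMod I, V), v t = g :=
    fun {V} g hg => QCohLib.exists_of_app_eq_zero (S := CurvLib.idealSeq I) (CurvLib.idealSeq_shortExact I).exact
      (CurvLib.idealSeq_shortExact I).mono_f (show Γ(Coh.structureModule X, V) from g)
      ((GenusZeroLib.ptIdeal_app_eq_zero_iff hP g).2 hg)
  have hex : ∀ (V : X.Opens) (t : Γ(ClSub.idealMod I, V)), ∃ t' : Γ(ClSub.idealMod I, V), Cond S (v t) (v t') := by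
    intro V t
    obtain ⟨g, hg⟩ := exists_cond hiso hequi hnode S (v t) (hvP t)
    obtain ⟨t', ht'⟩ := hvlift g fun hb => by
      obtain ⟨y, hy, hy2⟩ := mem_closure_iff.1 S.symm.mem_closure _ (X.basicOpen g).2 hb
      have hyV := X.basicOpen_le g hy
      have h1 := (Scheme.mem_basicOpen X g y hyV).1 hy
      rw [← germ_rf (inf_le_left : V ⊓ S.Z₂ ≤ V) g (show y ∈ V ⊓ S.Z₂ from ⟨hyV, hy2⟩), hg.2, map_zero] at h1
      exact not_isUnit_zero h1
    exact ⟨t', ht' ▸ hg⟩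
  choose E hE using hex
  have huniq : ∀ {V : X.Opens} (f : Γ(X, V)) (a b : Γ(ClSub.idealMod I, V)),
      Cond S f (v a) → Cond S f (v b) → a = b := fun {V} f a b ha hb => hv_inj a b (Cond.unique hiso ha hb)
  have hvadd : ∀ {V : X.Opens} (a b : Γ(ClSub.idealMod I, V)), v (a + b) = v a + v b := fun {V} a b =>
    map_add ((ClSub.idealModι I).app V).hom a b
  have hvsmul : ∀ {V : X.Opens} (r : Γ(X, V)) (a : Γ(ClSub.idealMod I, V)), v (r • a) = r * v a := fun {V} r a =>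
    IntMultLib.idealModι_smul I V r a
  have hadd : ∀ V a b, E V (a + b) = E V a + E V b := fun V a b => huniq _ _ _ (hE V (a + b)) (by
    rw [hvadd, hvadd]
    exact ⟨by rw [map_add, map_add, (hE V a).1, (hE V b).1], by rw [map_add, (hE V a).2, (hE V b).2, add_zero]⟩)
  have hsmul : ∀ (V : X.Opens) (r : Γ(X, V)) a, E V (r • a) = r • E V a := fun V r a => huniq _ _ _ (hE V (r • a)) (by
    rw [hvsmul, hvsmul]
    exact ⟨by rw [map_mul, map_mul, (hE V a).1], by rw [map_mul, (hE V a).2, mul_zero]⟩)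
  have hres : ∀ (V W : X.Opens) (i : W ⟶ V) a, E W ((ClSub.idealMod I).presheaf.map i.op a) =
      (ClSub.idealMod I).presheaf.map i.op (E V a) := fun V W i a => huniq _ _ _ (hE W _) (by
    have e : ∀ b, v ((ClSub.idealMod I).presheaf.map i.op b) = rf (leOfHom i) (v b) := fun b =>
      QCohLib.app_map (ClSub.idealModι I) i b
    rw [e, e]
    exact (hE V a).res _)
  let e : ClSub.idealMod I ⟶ ClSub.idealMod I :=
    ⟨PresheafOfModules.homMk (M₁ := (ClSub.idealMod I).val) (M₂ := (ClSub.idealMod I).val)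
      { app := fun V => AddCommGrpCat.ofHom (AddMonoidHom.mk' (E V.unop) (hadd V.unop))
        naturality := fun {U V} i => ConcreteCategory.hom_ext _ _ fun a => hres U.unop V.unop i.unop a }
      fun V r a => hsmul V.unop r a⟩
  have happ : ∀ (V : X.Opens) a, e.app V a = E V a := fun V a => rfl
  have hpts : ∀ T : X.Opens, P ∉ T → ∃ t : Γ(ClSub.idealMod I, T), v t = 1 := fun T hT =>
    hvlift 1 fun h => hT (X.basicOpen_le _ h)
  have hne01 : ∀ T : X.Opens, T ≠ ⊥ → (1 : Γ(X, T)) ≠ 0 := fun T hT h => hT (by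
    rw [← X.basicOpen_of_isUnit (isUnit_one (M := Γ(X, T))), h, Scheme.basicOpen_zero])
  refine ⟨e, ?_, fun h0 => ?_, fun h1 => ?_⟩
  · refine Scheme.Modules.hom_ext _ _ fun V => ConcreteCategory.hom_ext _ _ fun a => ?_
    change E V (E V a) = E V a
    exact huniq _ _ _ (hE V (E V a)) ⟨rfl, (hE V a).2⟩
  · obtain ⟨t, ht⟩ := hpts S.Z₁ S.not₁
    refine hne01 (S.Z₁ ⊓ S.Z₁) (by rw [inf_idem]; exact S.ne₁) ?_
    have h := (hE _ t).1
    rw [← happ, h0, ht, map_one] at h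
    rw [← h]
    change rf _ ((ClSub.idealModι I).app _ 0) = 0
    rw [map_zero]
    exact map_zero _
  · obtain ⟨t, ht⟩ := hpts S.Z₂ S.not₂
    refine hne01 (S.Z₂ ⊓ S.Z₂) (by rw [inf_idem]; exact S.ne₂) ?_
    have h := (hE _ t).2
    rw [← happ, h1] at h
    change rf _ (v t) = 0 at h
    rwa [ht, map_one] at h

end Unique

end SepNodeLib

end
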