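import Groth.Agent.S12463
import Groth.Agent.S7652

/-!
# Splitting the maximal ideal at a node between two groups of branches
-/

set_option autoImplicit false
set_option linter.style.haveILetI false

universe u

open IsLocalRing
open scoped nonZeroDivisors

noncomputable section

namespace SepNodeLib

variable {A : Type u} [CommRing A] [IsLocalRing A]

/-- With `δ = 1`, a non-trivial decomposition of a regular element into orthogonal parts splits the
maximal ideal. -/
theorem exists_mul_eq [Module.Finite A ↥(integralClosure A (FractionRing A))]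
    (hδ : Curv2.deltaInv A = 1) {x₁ x₂ : A} (h12 : x₁ * x₂ = 0) (hx : x₁ + x₂ ∈ A⁰)
    (h1 : x₁ ≠ 0) (h2 : x₂ ≠ 0) {a : A} (ha : a ∈ maximalIdeal A) : ∃ b, b * (x₁ + x₂) = a * x₁ := by
  let K := FractionRing A
  let C := ↥(integralClosure A K)
  obtain ⟨u, hu⟩ := IsLocalization.map_units K (⟨x₁ + x₂, hx⟩ : A⁰)
  let e : K := algebraMap A K x₁ * ↑u⁻¹
  have he : e * algebraMap A K (x₁ + x₂) = algebraMap A K x₁ := by
    change algebraMap A K x₁ * ↑u⁻¹ * algebraMap A K (x₁ + x₂) = _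
    rw [mul_assoc, ← show (u : K) = algebraMap A K (x₁ + x₂) from hu, Units.inv_mul, mul_one]
  have hee : e * e = e := by
    have h0 : algebraMap A K x₁ * algebraMap A K x₁ = algebraMap A K x₁ * algebraMap A K (x₁ + x₂) := by
      rw [← map_mul, ← map_mul, mul_add, h12, add_zero]
    change algebraMap A K x₁ * ↑u⁻¹ * (algebraMap A K x₁ * ↑u⁻¹) = algebraMap A K x₁ * ↑u⁻¹
    rw [show algebraMap A K x₁ * ↑u⁻¹ * (algebraMap A K x₁ * ↑u⁻¹) =
      (algebraMap A K x₁ * algebraMap A K x₁) * ↑u⁻¹ * ↑u⁻¹ by ring, h0,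
      ← show (u : K) = algebraMap A K (x₁ + x₂) from hu, mul_assoc (algebraMap A K x₁), Units.mul_inv, mul_one]
  let ε : C := ⟨e, Polynomial.X ^ 2 - Polynomial.X, Polynomial.monic_X_pow_sub (by
    rw [Polynomial.degree_X]; norm_num), by
      rw [← Polynomial.aeval_def, map_sub, map_pow, Polynomial.aeval_X, sq, hee, sub_self]⟩
  have hεε : ε * ε = ε := Subtype.ext hee
  have hnon : ¬ IsUnit ε ∧ ¬ IsUnit (1 - ε) := by
    constructor
    · intro hu'
      have h3 : ε = 1 := hu'.mul_left_cancel (hεε.trans (mul_one ε).symm)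
      refine h2 (IsFractionRing.injective A K ?_)
      rw [show e = 1 from congrArg Subtype.val h3, one_mul, map_add] at he
      rw [map_zero]
      exact (add_eq_left.1 he)
    · intro hu'
      have h3 : ε = 0 := hu'.mul_left_cancel (by rw [mul_zero, sub_mul, one_mul, hεε, sub_self])
      refine h1 (IsFractionRing.injective A K ?_)
      rw [show e = 0 from congrArg Subtype.val h3, zero_mul] at he
      rw [map_zero]
      exact he.symm
  obtain ⟨n₁, hn₁, hε1⟩ := exists_max_ideal_of_mem_nonunits (a := ε) hnon.1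
  obtain ⟨n₂, hn₂, hε2⟩ := exists_max_ideal_of_mem_nonunits (a := 1 - ε) hnon.2
  have hcard : ((1 : ℕ) : ℕ∞) + 1 ≤ ENat.card (MaximalSpectrum C) := by
    haveI : Nontrivial (MaximalSpectrum C) := by
      refine ⟨⟨⟨n₁, hn₁⟩, ⟨n₂, hn₂⟩, fun h => hn₁.ne_top ((Ideal.eq_top_iff_one _).2 ?_)⟩⟩
      rw [show (1 : C) = ε + (1 - ε) by ring]
      exact n₁.add_mem hε1 (by rw [show n₁ = n₂ from congrArg MaximalSpectrum.asIdeal h]; exact hε2)
    exact Order.add_one_le_of_lt (ENat.one_lt_card.trans_le' le_rfl)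
  obtain ⟨-, hmem⟩ := Groth.Agent.S12463.core (A := A) (C := C) 1 (by
    simpa [Curv2.deltaInv] using hδ) hcard
  obtain ⟨b, hb⟩ := hmem (algebraMap A C a * ε) ⟨0, fun m => by
    rw [map_zero, sub_zero]
    refine m.asIdeal.mul_mem_right _ ?_
    rw [← Ideal.mem_comap]
    haveI := m.isMaximal
    rw [eq_maximalIdeal (Ideal.isMaximal_comap_of_isIntegral_of_isMaximal (R := A) m.asIdeal)]
    exact ha⟩
  refine ⟨b, IsFractionRing.injective A K ?_⟩
  have hb' : algebraMap A K b = algebraMap A K a * e := congrArg Subtype.val hb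
  rw [map_mul, map_mul, hb', mul_assoc, he]

/-- Orthogonal functions separating two groups of minimal primes. -/
theorem exists_orthogonal [IsNoetherianRing A] [_root_.IsReduced A] (S : Set (Ideal A)) (hS : S ⊆ minimalPrimes A)
    (h1 : S.Nonempty) (h2 : (minimalPrimes A \ S).Nonempty) :
    ∃ x₁ x₂ : A, x₁ * x₂ = 0 ∧ x₁ + x₂ ∈ A⁰ ∧ x₁ ≠ 0 ∧ x₂ ≠ 0 ∧
      (∀ q ∈ S, x₂ ∈ q) ∧ ∀ q ∈ minimalPrimes A, q ∉ S → x₁ ∈ q := by
  classical
  have hfin := minimalPrimes.finite_of_isNoetherianRing A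
  have key : ∀ T : Set (Ideal A), T ⊆ minimalPrimes A → ∃ x : A, (∀ q ∈ T, x ∈ q) ∧ ∀ q ∈ minimalPrimes A, q ∉ T → x ∉ q := by
    intro T hT
    by_contra hcon
    push Not at hcon
    let F := (hfin.subset hT).toFinset
    let G := hfin.toFinset \ F
    have hsub : ((F.inf id : Ideal A) : Set A) ⊆ ⋃ q ∈ G, (q : Set A) := by
      intro x hx
      obtain ⟨q, hq, hqT, hxq⟩ := hcon x fun q hq => by
        have h0 := Finset.inf_le (f := id) (show q ∈ F from (Set.Finite.mem_toFinset _).2 hq) (b := q)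
        exact h0 hx
      simp only [Set.mem_iUnion]
      exact ⟨q, Finset.mem_sdiff.2 ⟨(Set.Finite.mem_toFinset _).2 hq, fun h => hqT ((Set.Finite.mem_toFinset _).1 h)⟩, hxq⟩
    obtain ⟨q, hq, hle⟩ := (Ideal.subset_union_prime (s := G) (f := id) ⊥ ⊥ fun q hq _ _ =>
      ((Set.Finite.mem_toFinset _).1 (Finset.mem_sdiff.1 hq).1).1.1).1 hsub
    obtain ⟨hq1, hq2⟩ := Finset.mem_sdiff.1 hq
    have hqm := (Set.Finite.mem_toFinset _).1 hq1
    obtain ⟨q', hq', hle'⟩ := hqm.1.1.inf_le'.1 hle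
    have hq'm := hT ((Set.Finite.mem_toFinset _).1 hq')
    exact hq2 (le_antisymm hle' (hqm.2 hq'm.1 hle') ▸ hq')
  obtain ⟨x₁, ha, hb⟩ := key (minimalPrimes A \ S) Set.diff_subset
  obtain ⟨x₂, hc, hd⟩ := key S hS
  have hx1 : ∀ q ∈ S, x₁ ∉ q := fun q hq => hb q (hS hq) fun h => h.2 hq
  refine ⟨x₁, x₂, ?_, ?_, ?_, ?_, hc, fun q hq hqS => ha q ⟨hq, hqS⟩⟩
  · have h : x₁ * x₂ ∈ sInf (minimalPrimes A) := by
      rw [Submodule.mem_sInf]
      intro q hq
      by_cases hqS : q ∈ S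
      · exact Ideal.mul_mem_left q _ (hc q hqS)
      · exact Ideal.mul_mem_right _ _ (ha q ⟨hq, hqS⟩)
    rwa [show sInf (minimalPrimes A) = nilradical A by rw [nilradical, ← Ideal.sInf_minimalPrimes]; rfl,
      nilradical_eq_zero, Submodule.zero_eq_bot, Submodule.mem_bot] at h
  · rw [mem_nonZeroDivisors_iff_right]
    intro y hy
    have h : y ∈ sInf (minimalPrimes A) := by
      rw [Submodule.mem_sInf]
      intro q hq
      refine (hq.1.1.mem_or_mem (show y * (x₁ + x₂) ∈ q by rw [hy]; exact q.zero_mem)).resolve_right fun hx => ?_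
      by_cases hqS : q ∈ S
      · exact hx1 q hqS ((q.add_mem_iff_left (hc q hqS)).1 hx)
      · exact hd q hq hqS ((q.add_mem_iff_right (ha q ⟨hq, hqS⟩)).1 hx)
    rwa [show sInf (minimalPrimes A) = nilradical A by rw [nilradical, ← Ideal.sInf_minimalPrimes]; rfl,
      nilradical_eq_zero, Submodule.zero_eq_bot, Submodule.mem_bot] at h
  · intro h
    obtain ⟨q, hq⟩ := h1
    exact hx1 q hq (h ▸ q.zero_mem)
  · intro h
    obtain ⟨q, hq, hqS⟩ := h2
    exact hd q hq hqS (h ▸ q.zero_mem)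

end SepNodeLib

end
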