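import Groth.Agent.SepNodeLib.Alg
import Groth.Agent.NormGenusLib.Node
import Groth.Agent.DeltaBaseLib.Main
import Groth.Agent.MultiPtLib.Point
import Groth.Agent.CurvLib.Finite0
import Groth.Agent.CurvLib.Line

/-!
# Functions near a separating node
-/

set_option autoImplicit false
set_option linter.style.haveILetI false

universe u

open CategoryTheory CategoryTheory.Limits AlgebraicGeometry TopologicalSpace Opposite IsLocalRing

noncomputable section

namespace SepNodeLib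

variable {X : Scheme.{u}}

/-- Restriction of functions. -/
abbrev rf {V W : X.Opens} (h : W ≤ V) : Γ(X, V) →+* Γ(X, W) := (X.presheaf.map (homOfLE h).op).hom

theorem rf_rf {U V W : X.Opens} (h : W ≤ V) (h' : V ≤ U) (f : Γ(X, U)) : rf h (rf h' f) = rf (h.trans h') f :=
  (ConcreteCategory.congr_hom (X.presheaf.map_comp (homOfLE h').op (homOfLE h).op) f).symm

theorem germ_rf {V W : X.Opens} (h : W ≤ V) (f : Γ(X, V)) {x : X} (hx : x ∈ W) :
    X.presheaf.germ W x hx (rf h f) = X.presheaf.germ V x (h hx) f := TopCat.Presheaf.germ_res_apply ..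

theorem mem_basicOpen_fromSpecStalk {P : X} {W : X.Opens} (hP : P ∈ W) (f : Γ(X, W))
    (q : PrimeSpectrum (X.presheaf.stalk P)) :
    X.fromSpecStalk P q ∈ X.basicOpen f ↔ X.presheaf.germ W P hP f ∉ q.asIdeal := by
  have hs : X.fromSpecStalk P q ⤳ P := Set.ext_iff.1 X.range_fromSpecStalk _ |>.1 ⟨q, rfl⟩
  have hqW : q ∈ (X.fromSpecStalk P) ⁻¹ᵁ W := hs.mem_open W.2 hP
  change q ∈ (X.fromSpecStalk P) ⁻¹ᵁ X.basicOpen f ↔ _
  rw [Scheme.preimage_basicOpen, Scheme.fromSpecStalk_app hP, CommRingCat.comp_apply, CommRingCat.comp_apply,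
    Scheme.basicOpen_res, basicOpen_eq_of_affine']
  refine ⟨fun h => ?_, fun h => ⟨hqW, ?_⟩⟩
  · have h2 := h.2
    rw [Iso.inv_hom_id_apply] at h2
    exact h2
  · rw [Iso.inv_hom_id_apply]
    exact h

theorem eq_of_mem_minimalPrimes_iff {P : X} (q : PrimeSpectrum (X.presheaf.stalk P)) :
    closure ({X.fromSpecStalk P q} : Set X) ∈ irreducibleComponents (X : Type u) ↔
      q.asIdeal ∈ minimalPrimes (X.presheaf.stalk P) := by
  have hind := (X.fromSpecStalk P).isEmbedding.isInducing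
  constructor
  · intro h
    refine ⟨⟨q.2, bot_le⟩, fun q' hq' hle => ?_⟩
    let r : PrimeSpectrum (X.presheaf.stalk P) := ⟨q', hq'.1⟩
    have hrq : X.fromSpecStalk P r ⤳ X.fromSpecStalk P q :=
      hind.specializes_iff.2 ((PrimeSpectrum.le_iff_specializes r q).1 hle)
    have h1 := h.2 isIrreducible_singleton.closure hrq.closure_subset
    have h2 : X.fromSpecStalk P q ⤳ X.fromSpecStalk P r :=
      specializes_iff_mem_closure.2 (h1 (subset_closure rfl))
    exact (PrimeSpectrum.le_iff_specializes q r).2 (hind.specializes_iff.1 h2)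
  · intro h
    refine ⟨isIrreducible_singleton.closure, fun Z hZ hle => ?_⟩
    obtain ⟨η, hη⟩ := QuasiSober.sober hZ.closure isClosed_closure
    have h1 : η ⤳ X.fromSpecStalk P q := specializes_iff_mem_closure.2
      (hη.def.symm ▸ subset_closure (hle (subset_closure rfl)))
    have h2 : X.fromSpecStalk P q ⤳ P := Set.ext_iff.1 X.range_fromSpecStalk _ |>.1 ⟨q, rfl⟩
    obtain ⟨r, rfl⟩ := Set.ext_iff.1 X.range_fromSpecStalk η |>.2 (h1.trans h2)
    have hrq : r.asIdeal ≤ q.asIdeal := (PrimeSpectrum.le_iff_specializes r q).2 (hind.specializes_iff.1 h1)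
    have heq : r = q := PrimeSpectrum.ext (le_antisymm hrq (h.2 ⟨r.2, bot_le⟩ hrq))
    subst heq
    exact subset_closure.trans hη.def.ge

/-- A separation of the complement of a point. -/
structure Split (P : X) where
  Z₁ : X.Opens
  Z₂ : X.Opens
  disj : ∀ x, x ∈ Z₁ → x ∉ Z₂
  cov : ∀ x, x ≠ P → x ∈ Z₁ ∨ x ∈ Z₂
  not₁ : P ∉ Z₁
  not₂ : P ∉ Z₂
  ne₁ : Z₁ ≠ ⊥
  ne₂ : Z₂ ≠ ⊥

theorem exists_split {P : X} (hP : IsClosed ({P} : Set X)) (h : ¬ IsPreconnected (({P} : Set X)ᶜ)) :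
    Nonempty (Split P) := by
  unfold _root_.IsPreconnected at h
  simp only [not_forall] at h
  obtain ⟨u, v, hu, hv, hsub, hu', hv', hne⟩ := h
  let W : X.Opens := ⟨({P} : Set X)ᶜ, hP.isOpen_compl⟩
  have hempty : ∀ x, x ≠ P → x ∈ u → x ∉ v := fun x hx hxu hxv => hne ⟨x, hx, hxu, hxv⟩
  refine ⟨⟨W ⊓ ⟨u, hu⟩, W ⊓ ⟨v, hv⟩, fun x hx hx' => hempty x hx.1 hx.2 hx'.2, fun x hx => ?_,
    fun h => h.1 rfl, fun h => h.1 rfl, fun h => ?_, fun h => ?_⟩⟩
  · rcases hsub (show x ∈ ({P} : Set X)ᶜ from hx) with h | h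
    · exact Or.inl ⟨hx, h⟩
    · exact Or.inr ⟨hx, h⟩
  · obtain ⟨x, hx, hxu⟩ := hu'
    exact (h ▸ (⟨hx, hxu⟩ : x ∈ W ⊓ ⟨u, hu⟩) : x ∈ (⊥ : X.Opens))
  · obtain ⟨x, hx, hxv⟩ := hv'
    exact (h ▸ (⟨hx, hxv⟩ : x ∈ W ⊓ ⟨v, hv⟩) : x ∈ (⊥ : X.Opens))

namespace Split

/-- Exchange the sides. -/
def symm {P : X} (S : Split P) : Split P :=
  ⟨S.Z₂, S.Z₁, fun x h h' => S.disj x h' h, fun x h => (S.cov x h).symm, S.not₂, S.not₁, S.ne₂, S.ne₁⟩

theorem mem_closure [ConnectedSpace X] {P : X} (S : Split P) : P ∈ closure (S.Z₁ : Set X) := by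
  by_contra hP
  have hc : IsClopen (S.Z₁ : Set X) := by
    refine ⟨closure_subset_iff_isClosed.1 fun x hx => ?_, S.Z₁.2⟩
    have hxP : x ≠ P := fun h => hP (h ▸ hx)
    refine (S.cov x hxP).resolve_right fun h2 => ?_
    obtain ⟨y, hy2, hy1⟩ := mem_closure_iff.1 hx _ S.Z₂.2 h2
    exact S.disj y hy1 hy2
  rcases isClopen_iff.1 hc with h | h
  · exact S.ne₁ (Opens.ext h)
  · exact S.not₁ (h.ge (Set.mem_univ P))

end Split

variable {k : Type u} [Field k] [IsAlgClosed k] [X.Over (Spec (CommRingCat.of k))]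
  [LocallyOfFiniteType (X ↘ (Spec (CommRingCat.of k)))] [AlgebraicGeometry.IsReduced X] [AlgebraicGeometry.IsNoetherian X]
  [ConnectedSpace X]
  (hequi : ∀ Z ∈ irreducibleComponents (X : Type u), topologicalKrullDim Z = 1)

include hequi in
omit [IsAlgClosed k] [X.Over (Spec (CommRingCat.of k))] [LocallyOfFiniteType (X ↘ (Spec (CommRingCat.of k)))] [AlgebraicGeometry.IsReduced X] [AlgebraicGeometry.IsNoetherian X] [ConnectedSpace X] in
theorem generic_ne {P η : X} (hP : IsClosed ({P} : Set X))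
    (hη : closure ({η} : Set X) ∈ irreducibleComponents (X : Type u)) : η ≠ P := by
  rintro rfl
  have h := hequi _ hη
  rw [hP.closure_eq] at h
  have h0 : topologicalKrullDim (({η} : Set X)) ≤ 0 := topologicalKrullDim_zero_of_discreteTopology _
  rw [h] at h0
  exact absurd h0 (by decide)

include hequi in
omit [IsAlgClosed k] [X.Over (Spec (CommRingCat.of k))] [LocallyOfFiniteType (X ↘ (Spec (CommRingCat.of k)))] [AlgebraicGeometry.IsReduced X] [ConnectedSpace X] in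
theorem finite_inter {η : X} (hη : closure ({η} : Set X) ∈ irreducibleComponents (X : Type u)) {T : Set X}
    (hT : IsClosed T) (hηT : η ∉ T) : (closure ({η} : Set X) ∩ T).Finite ∧ ∀ x ∈ closure ({η} : Set X) ∩ T, IsClosed ({x} : Set X) := by
  let C := closure ({η} : Set X)
  haveI : IrreducibleSpace C := Subtype.irreducibleSpace isIrreducible_singleton.closure
  have h1 := CurvLib.topologicalKrullDim_le_zero_of_lt (hequi _ hη)
    (hT.preimage (continuous_subtype_val : Continuous (Subtype.val : C → X)))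
    (fun h => hηT (h.ge (Set.mem_univ (⟨η, subset_closure rfl⟩ : C))))
  refine CurvLib.finite_isClosed_of_dim_le_zero (isClosed_closure.inter hT) ?_
  let f : ↥(C ∩ T) → ↥((Subtype.val : C → X) ⁻¹' T) := fun x => ⟨⟨x.1, x.2.1⟩, x.2.2⟩
  have hf : Topology.IsInducing f := by
    refine Topology.IsInducing.of_comp (g := fun x : ↥((Subtype.val : C → X) ⁻¹' T) => x.1.1) ?_ ?_
      Topology.IsInducing.subtypeVal
    · exact Continuous.subtype_mk (Continuous.subtype_mk continuous_subtype_val _) _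
    · exact continuous_subtype_val.comp continuous_subtype_val
  exact hf.topologicalKrullDim_le.trans h1

variable {P : X} (S : Split P)

include hequi in
omit [IsAlgClosed k] [X.Over (Spec (CommRingCat.of k))] [LocallyOfFiniteType (X ↘ (Spec (CommRingCat.of k)))] [AlgebraicGeometry.IsReduced X] in
theorem exists_minimal_mem (hP : IsClosed ({P} : Set X)) :
    ∃ q : PrimeSpectrum (X.presheaf.stalk P), q.asIdeal ∈ minimalPrimes (X.presheaf.stalk P) ∧
      X.fromSpecStalk P q ∈ S.Z₁ := by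
  let G := {η : X | closure ({η} : Set X) ∈ irreducibleComponents (X : Type u) ∧ η ∈ S.Z₁}
  have hG : G.Finite := by
    refine Set.Finite.of_finite_image (f := fun η => closure ({η} : Set X))
      (NoetherianSpace.finite_irreducibleComponents.subset ?_) fun a _ b _ h =>
      (isGenericPoint_closure (x := a)).eq (by rw [IsGenericPoint]; exact h.symm)
    rintro _ ⟨η, hη, rfl⟩
    exact hη.1
  have hsub : (S.Z₁ : Set X) ⊆ ⋃ η ∈ G, closure ({η} : Set X) := by
    intro z hz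
    have hcl := irreducibleComponent_mem_irreducibleComponents z
    obtain ⟨η, hη⟩ := QuasiSober.sober (isIrreducible_irreducibleComponent (x := z)) isClosed_irreducibleComponent
    have h1 : z ∈ closure ({η} : Set X) := hη.def.symm ▸ mem_irreducibleComponent
    exact Set.mem_biUnion ⟨hη.def.symm ▸ hcl, (specializes_iff_mem_closure.2 h1).mem_open S.Z₁.2 hz⟩ h1
  obtain ⟨η, hη, hPη⟩ := Set.mem_iUnion₂.1
    (closure_minimal hsub (hG.isClosed_biUnion fun _ _ => isClosed_closure) S.mem_closure)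
  obtain ⟨q, rfl⟩ := Set.ext_iff.1 X.range_fromSpecStalk η |>.2 (specializes_iff_mem_closure.2 hPη)
  exact ⟨q, (eq_of_mem_minimalPrimes_iff q).1 hη.1, hη.2⟩

include hequi in
/-- A function vanishing at the node can be killed on one side near the node. -/
theorem exists_local_split (hnode : Curv2.IsNode k X P) {V : X.Opens} (hPV : P ∈ V) (f : Γ(X, V))
    (hf : P ∉ X.basicOpen f) :
    ∃ (W : X.Opens) (hW : W ≤ V) (b : Γ(X, W)), P ∈ W ∧
      rf (inf_le_left : W ⊓ S.Z₁ ≤ W) b = rf ((inf_le_left : W ⊓ S.Z₁ ≤ W).trans hW) f ∧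
      rf (inf_le_left : W ⊓ S.Z₂ ≤ W) b = 0 := by
  classical
  have hP := hnode.1
  let A := X.presheaf.stalk P
  have hdim : ringKrullDim A = 1 := MultiPtLib.dim_stalk X hequi P hP
  have hN := DeltaBaseLib.isNagata_stalk k P
  haveI := hN.1
  haveI : Module.Finite A ↥(integralClosure A (FractionRing A)) := (Groth.Agent.S7652.result A hN hdim).1
  have hδ : Curv2.deltaInv A = 1 :=
    NormGenusLib.deltaInv_node (FibDimLib.IsPureDim.topologicalKrullDim_le (A := X) (e := 1) hequi) hnode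
  let SS : Set (Ideal A) := {q | q ∈ minimalPrimes A ∧ ∃ h : q.IsPrime, X.fromSpecStalk P ⟨q, h⟩ ∈ S.Z₁}
  obtain ⟨q₁, hq₁, hq₁'⟩ := exists_minimal_mem hequi S hP
  obtain ⟨q₂, hq₂, hq₂'⟩ := exists_minimal_mem hequi S.symm hP
  obtain ⟨x₁, x₂, h12, hx, hne1, hne2, hS1, hS2⟩ := exists_orthogonal SS (fun q hq => hq.1)
    ⟨q₁.asIdeal, hq₁, q₁.2, hq₁'⟩ ⟨q₂.asIdeal, hq₂, fun ⟨_, _, h⟩ => S.disj _ h hq₂'⟩
  have ha : X.presheaf.germ V P hPV f ∈ maximalIdeal A := by
    rw [mem_maximalIdeal, mem_nonunits_iff]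
    rwa [← Scheme.mem_basicOpen (hx := hPV)]
  obtain ⟨b₀, hb₀⟩ := exists_mul_eq hδ h12 hx hne1 hne2 ha
  -- spread out
  obtain ⟨U₁, hU₁, y₁, rfl⟩ := TopCat.Presheaf.germ_exist X.presheaf x₁
  obtain ⟨U₂, hU₂, y₂, rfl⟩ := TopCat.Presheaf.germ_exist X.presheaf x₂
  obtain ⟨U₃, hU₃, c, rfl⟩ := TopCat.Presheaf.germ_exist X.presheaf b₀
  let U : X.Opens := V ⊓ U₁ ⊓ U₂ ⊓ U₃
  have hUV : U ≤ V := (inf_le_left.trans inf_le_left).trans inf_le_left
  have hU1 : U ≤ U₁ := (inf_le_left.trans inf_le_left).trans inf_le_right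
  have hU2 : U ≤ U₂ := inf_le_left.trans inf_le_right
  have hU3 : U ≤ U₃ := inf_le_right
  have hPU : P ∈ U := ⟨⟨⟨hPV, hU₁⟩, hU₂⟩, hU₃⟩
  let s₁ := rf hU1 y₁
  let s₂ := rf hU2 y₂
  let c' := rf hU3 c
  let f' := rf hUV f
  have he1 : X.presheaf.germ U P hPU (rf hU3 c * (s₁ + s₂)) = X.presheaf.germ U P hPU (rf hUV f * s₁) := by
    simp only [s₁, s₂, map_mul, map_add, germ_rf]
    exact hb₀
  have he2 : X.presheaf.germ U P hPU (s₁ * s₂) = X.presheaf.germ U P hPU 0 := by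
    simp only [s₁, s₂, map_mul, germ_rf, map_zero]
    exact h12
  obtain ⟨U', hPU', i, j, hij⟩ := TopCat.Presheaf.germ_eq X.presheaf P hPU hPU _ _ he1
  obtain ⟨U'', hPU'', i', j', hij'⟩ := TopCat.Presheaf.germ_eq X.presheaf P hPU hPU _ _ he2
  let U₀ : X.Opens := U' ⊓ U''
  have h0U : U₀ ≤ U := inf_le_left.trans (leOfHom i)
  have E1 : rf h0U c' * (rf h0U s₁ + rf h0U s₂) = rf h0U f' * rf h0U s₁ := by
    have h := congrArg (rf (inf_le_left : U₀ ≤ U')) hij
    change rf _ (rf (leOfHom i) _) = rf _ (rf (leOfHom j) _) at h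
    rw [rf_rf, rf_rf, map_mul, map_add, map_mul] at h
    exact h
  have E2 : rf h0U s₁ * rf h0U s₂ = 0 := by
    have h := congrArg (rf (inf_le_right : U₀ ≤ U'')) hij'
    change rf _ (rf (leOfHom i') _) = rf _ (rf (leOfHom j') _) at h
    rw [rf_rf, rf_rf, map_mul, map_zero] at h
    exact h
  -- remove bad components and zeros
  let σ := rf h0U s₁ + rf h0U s₂
  let Comp := {η : X | closure ({η} : Set X) ∈ irreducibleComponents (X : Type u)}
  have hComp : Comp.Finite := Set.Finite.of_finite_image (f := fun η => closure ({η} : Set X))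
    (NoetherianSpace.finite_irreducibleComponents.subset (by rintro _ ⟨η, hη, rfl⟩; exact hη))
    fun a _ b _ h => (isGenericPoint_closure (x := a)).eq (by rw [IsGenericPoint]; exact h.symm)
  have hgood : ∀ η ∈ Comp, η ⤳ P → η ∈ X.basicOpen σ := by
    intro η hη hs
    obtain ⟨q, rfl⟩ := Set.ext_iff.1 X.range_fromSpecStalk η |>.2 hs
    refine (mem_basicOpen_fromSpecStalk (show P ∈ U₀ from ⟨hPU', hPU''⟩) σ q).2 fun hq => ?_
    have hqm := (eq_of_mem_minimalPrimes_iff q).1 hη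
    simp only [σ, s₁, s₂, map_add, germ_rf] at hq
    exact Set.disjoint_left.1 (Ideal.disjoint_nonZeroDivisors_of_mem_minimalPrimes hqm) hq hx
  let Bad : Set X := (⋃ η ∈ {η ∈ Comp | ¬ η ⤳ P}, closure ({η} : Set X)) ∪
    ((⋃ η ∈ {η ∈ Comp | η ⤳ P}, closure ({η} : Set X) ∩ ((X.basicOpen σ : X.Opens) : Set X)ᶜ) \ {P})
  have hBad : IsClosed Bad := by
    refine ((hComp.subset fun η hη => hη.1).isClosed_biUnion fun _ _ => isClosed_closure).union ?_
    have hfin : (⋃ η ∈ {η ∈ Comp | η ⤳ P}, closure ({η} : Set X) ∩ ((X.basicOpen σ : X.Opens) : Set X)ᶜ).Finite :=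
      (hComp.subset fun η hη => hη.1).biUnion fun η hη =>
        (finite_inter hequi hη.1 (X.basicOpen σ).2.isClosed_compl (fun h => h (hgood η hη.1 hη.2))).1
    rw [← Set.biUnion_of_singleton ((⋃ η ∈ {η ∈ Comp | η ⤳ P},
      closure ({η} : Set X) ∩ ((X.basicOpen σ : X.Opens) : Set X)ᶜ) \ {P})]
    refine (hfin.subset Set.diff_subset).isClosed_biUnion fun z hz => ?_
    obtain ⟨η, hη, hz'⟩ := Set.mem_iUnion₂.1 hz.1
    exact (finite_inter hequi hη.1 (X.basicOpen σ).2.isClosed_compl (fun h => h (hgood η hη.1 hη.2))).2 z hz'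
  have hPBad : P ∉ Bad := by
    rintro (h | h)
    · obtain ⟨η, hη, hPη⟩ := Set.mem_iUnion₂.1 h
      exact hη.2 (specializes_iff_mem_closure.2 hPη)
    · exact h.2 rfl
  let W : X.Opens := U₀ ⊓ ⟨Badᶜ, hBad.isOpen_compl⟩
  have hW0 : W ≤ U₀ := inf_le_left
  have hpt : ∀ z (hz : z ∈ W), z ≠ P → z ∈ X.basicOpen σ ∧
      (z ∈ S.Z₁ → z ∉ X.basicOpen (rf h0U s₂)) ∧ (z ∈ S.Z₂ → z ∉ X.basicOpen (rf h0U s₁)) := by
    intro z hz hzP
    obtain ⟨η, hη⟩ := QuasiSober.sober (isIrreducible_irreducibleComponent (x := z)) isClosed_irreducibleComponent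
    have h1 : z ∈ closure ({η} : Set X) := hη.def.symm ▸ mem_irreducibleComponent
    have hηz : η ⤳ z := specializes_iff_mem_closure.2 h1
    have hηC : η ∈ Comp := by
      refine (?_ : closure ({η} : Set X) ∈ irreducibleComponents (X : Type u))
      rw [hη.def]
      exact irreducibleComponent_mem_irreducibleComponents z
    have hηP : η ⤳ P := by
      by_contra hn
      exact hz.2 (Or.inl (Set.mem_biUnion ⟨hηC, hn⟩ h1))
    obtain ⟨q, rfl⟩ := Set.ext_iff.1 X.range_fromSpecStalk η |>.2 hηP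
    have hqm := (eq_of_mem_minimalPrimes_iff q).1 hηC
    refine ⟨?_, fun hz1 hb => ?_, fun hz2 hb => ?_⟩
    · by_contra hn
      exact hz.2 (Or.inr ⟨Set.mem_biUnion ⟨hηC, hηP⟩ ⟨h1, hn⟩, hzP⟩)
    · have h3 := (mem_basicOpen_fromSpecStalk (show P ∈ U₀ from ⟨hPU', hPU''⟩) _ q).1
        (hηz.mem_open (X.basicOpen _).2 hb)
      simp only [s₂, germ_rf] at h3
      refine h3 (hS1 _ ⟨hqm, q.2, ?_⟩)
      refine (S.cov _ (generic_ne hequi hP hηC)).resolve_right fun h2 => ?_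
      rcases S.cov z hzP with _ | hz2
      · exact S.disj _ (hηz.mem_open S.Z₁.2 hz1) h2
      · exact S.disj _ hz1 hz2
    · have h3 := (mem_basicOpen_fromSpecStalk (show P ∈ U₀ from ⟨hPU', hPU''⟩) _ q).1
        (hηz.mem_open (X.basicOpen _).2 hb)
      simp only [s₁, germ_rf] at h3
      exact h3 (hS2 _ hqm fun ⟨_, _, h⟩ => S.disj _ h (hηz.mem_open S.Z₂.2 hz2))
  refine ⟨W, (hW0.trans h0U).trans hUV, rf ((hW0.trans h0U).trans hU3) c, ⟨⟨hPU', hPU''⟩, hPBad⟩, ?_, ?_⟩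
  · refine X.sheaf.eq_of_locally_eq' (fun z : ↥(W ⊓ S.Z₁) => W ⊓ S.Z₁ ⊓ X.basicOpen σ) _
      (fun z => homOfLE inf_le_left) (fun z hz => Opens.mem_iSup.2 ⟨⟨z, hz⟩, hz, (hpt z hz.1 fun h => S.not₁ (h ▸ hz.2)).1⟩)
      _ _ fun z => ?_
    change rf inf_le_left (rf inf_le_left (rf _ c)) = rf inf_le_left (rf _ f)
    have hle : W ⊓ S.Z₁ ⊓ X.basicOpen σ ≤ U₀ := (inf_le_left.trans inf_le_left).trans hW0
    have hu : IsUnit (rf hle σ) := by
      rw [← rf_rf (inf_le_right : W ⊓ S.Z₁ ⊓ X.basicOpen σ ≤ X.basicOpen σ) (X.basicOpen_le σ)]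
      exact (AlgebraicGeometry.RingedSpace.isUnit_res_basicOpen X.toRingedSpace σ).map _
    have hs2 : rf hle (rf h0U s₂) = 0 := by
      have h12' : rf hle (rf h0U s₁) * rf hle (rf h0U s₂) = 0 := by
        rw [← map_mul, E2, map_zero]
      refine (IsUnit.mul_right_eq_zero ?_).1 h12'
      refine RingedSpace.isUnit_of_isUnit_germ X.toRingedSpace _ _ fun y hy => ?_
      rw [show X.toRingedSpace.presheaf.germ _ y hy (rf hle (rf h0U s₁)) =
        X.presheaf.germ U₀ y (hle hy) (rf h0U s₁) from germ_rf hle _ hy]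
      have hσ := (Scheme.mem_basicOpen X σ _ (hle hy)).1 hy.2
      rw [map_add] at hσ
      refine (IsLocalRing.isUnit_or_isUnit_of_isUnit_add hσ).resolve_right fun h => ?_
      exact (hpt y hy.1.1 fun h => S.not₁ (h ▸ hy.1.2)).2.1 hy.1.2 ((Scheme.mem_basicOpen X _ _ (hle hy)).2 h)
    have hE := congrArg (rf hle) E1
    rw [map_mul, map_add, map_mul, hs2, add_zero] at hE
    rw [map_add, hs2, add_zero] at hu
    have := hu.mul_right_cancel hE
    simp only [c', f', rf_rf] at this ⊢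
    exact this
  · refine X.sheaf.eq_of_locally_eq' (fun z : ↥(W ⊓ S.Z₂) => W ⊓ S.Z₂ ⊓ X.basicOpen σ) _
      (fun z => homOfLE inf_le_left) (fun z hz => Opens.mem_iSup.2 ⟨⟨z, hz⟩, hz, (hpt z hz.1 fun h => S.not₂ (h ▸ hz.2)).1⟩)
      _ _ fun z => ?_
    change rf inf_le_left (rf inf_le_left (rf _ c)) = rf inf_le_left 0
    have hle : W ⊓ S.Z₂ ⊓ X.basicOpen σ ≤ U₀ := (inf_le_left.trans inf_le_left).trans hW0
    have hu : IsUnit (rf hle σ) := by
      rw [← rf_rf (inf_le_right : W ⊓ S.Z₂ ⊓ X.basicOpen σ ≤ X.basicOpen σ) (X.basicOpen_le σ)]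
      exact (AlgebraicGeometry.RingedSpace.isUnit_res_basicOpen X.toRingedSpace σ).map _
    have hs1 : rf hle (rf h0U s₁) = 0 := by
      have h12' : rf hle (rf h0U s₁) * rf hle (rf h0U s₂) = 0 := by
        rw [← map_mul, E2, map_zero]
      refine (IsUnit.mul_left_eq_zero ?_).1 h12'
      refine RingedSpace.isUnit_of_isUnit_germ X.toRingedSpace _ _ fun y hy => ?_
      rw [show X.toRingedSpace.presheaf.germ _ y hy (rf hle (rf h0U s₂)) =
        X.presheaf.germ U₀ y (hle hy) (rf h0U s₂) from germ_rf hle _ hy]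
      have hσ := (Scheme.mem_basicOpen X σ _ (hle hy)).1 hy.2
      rw [map_add] at hσ
      refine (IsLocalRing.isUnit_or_isUnit_of_isUnit_add hσ).resolve_left fun h => ?_
      exact (hpt y hy.1.1 fun h => S.not₂ (h ▸ hy.1.2)).2.2 hy.1.2 ((Scheme.mem_basicOpen X _ _ (hle hy)).2 h)
    have hE := congrArg (rf hle) E1
    rw [map_mul, map_add, map_mul, hs1, mul_zero, zero_add] at hE
    rw [map_add, hs1, zero_add] at hu
    have := hu.mul_left_eq_zero.1 hE
    simp only [c', rf_rf] at this ⊢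
    rw [this]
    exact (map_zero _).symm

end SepNodeLib

end
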